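import Mathlib.AlgebraicGeometry.Morphisms.Etale
import Mathlib.AlgebraicGeometry.Morphisms.Finite
import Mathlib.AlgebraicGeometry.Morphisms.FormallyUnramified
import Mathlib.LinearAlgebra.FreeModule.Finite.Matrix
import Mathlib.RingTheory.IntegralClosure.IntegrallyClosed

/-!
# Points of finite unramified schemes over a local normal domain reduce injectively
-/

set_option autoImplicit false

universe u

open CategoryTheory CategoryTheory.Limits AlgebraicGeometry TensorProduct

namespace Groth.Agent.H2.Tors.Reduce

variable {R : Type u} [CommRing R] [IsDomain R] [IsLocalRing R] [IsIntegrallyClosed R]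
  {N : Scheme.{u}} (π : N ⟶ Spec (CommRingCat.of R)) [IsFinite π] [FormallyUnramified π]

/-- Points of a scheme over `Spec R` with values in `Spec T`. -/
abbrev Pts (T : Type u) [CommRing T] [Algebra R T] : Type u :=
  {z : Spec (CommRingCat.of T) ⟶ N // z ≫ π = Spec.map (CommRingCat.ofHom (algebraMap R T))}

theorem natCard_le :
    Nat.card (Pts π (FractionRing R)) ≤ Nat.card (Pts π (IsLocalRing.ResidueField R)) := by
  classical
  haveI : IsAffine N := isAffine_of_isAffineHom π
  let B := Γ(N, ⊤)
  obtain ⟨φ, hφ⟩ := Spec.map_surjective (N.isoSpec.inv ≫ π)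
  have hfin : φ.hom.Finite := (IsFinite.SpecMap_iff φ).1 (hφ ▸ inferInstance)
  letI := φ.hom.toAlgebra
  haveI : Module.Finite R B := hfin
  let K := FractionRing R
  let k := IsLocalRing.ResidueField R
  have e : ∀ (T : Type u) [CommRing T] [Algebra R T], Pts π T ≃ (B →ₐ[R] T) := fun T _ _ =>
    { toFun := fun z =>
        { (Spec.preimage (z.1 ≫ N.isoSpec.hom)).hom with
          commutes' := fun r => by
            have h : φ ≫ Spec.preimage (z.1 ≫ N.isoSpec.hom) = CommRingCat.ofHom (algebraMap R T) := by
              apply Spec.map_injective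
              rw [Spec.map_comp, Spec.map_preimage, hφ, Category.assoc, Iso.hom_inv_id_assoc]
              exact z.2
            exact congr($(h).hom r) }
      invFun := fun a => ⟨Spec.map (CommRingCat.ofHom a.toRingHom) ≫ N.isoSpec.inv, by
        rw [Category.assoc, ← hφ, ← Spec.map_comp]
        congr 1
        ext r
        exact a.commutes r⟩
      left_inv := fun z => by
        apply Subtype.ext
        change Spec.map (Spec.preimage _) ≫ _ = _
        rw [Spec.map_preimage, Category.assoc, Iso.hom_inv_id, Category.comp_id]
      right_inv := fun a => by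
        ext x
        change (Spec.preimage (_ ≫ N.isoSpec.hom)).hom x = _
        rw [Category.assoc, Iso.inv_hom_id, Category.comp_id, Spec.preimage_map]
        rfl }
  rw [Nat.card_congr (e K), Nat.card_congr (e k)]
  have hint : ∀ (a : B →ₐ[R] K) (b : B), ∃ r : R, algebraMap R K r = a b := fun a b =>
    IsIntegrallyClosed.isIntegral_iff.1 ((Algebra.IsIntegral.isIntegral b).map a)
  choose r hr using hint
  have hinj : Function.Injective (algebraMap R K) := IsFractionRing.injective R K
  let red : (B →ₐ[R] K) → (B →ₐ[R] R) := fun a =>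
    { toFun := r a
      map_one' := hinj (by rw [hr, map_one, map_one])
      map_mul' := fun x y => hinj (by rw [hr, map_mul (algebraMap R K), hr, hr, map_mul])
      map_zero' := hinj (by rw [hr, map_zero, map_zero])
      map_add' := fun x y => hinj (by rw [hr, map_add (algebraMap R K), hr, hr, map_add])
      commutes' := fun x => hinj (by rw [hr, AlgHom.commutes]; rfl) }
  haveI : Module.Finite k (k ⊗[R] B) := inferInstance
  haveI : Finite (B →ₐ[R] k) := by
    haveI : Finite (k ⊗[R] B →ₐ[k] k) := inferInstance
    refine Finite.of_injective (β := k ⊗[R] B →ₐ[k] k)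
      (fun a => Algebra.TensorProduct.lift (Algebra.ofId k k) a fun x y => Commute.all _ _) fun a b h => ?_
    ext x
    have := congr($h (1 ⊗ₜ x))
    simpa using this
  refine Nat.card_le_card_of_injective
    (fun a => (IsScalarTower.toAlgHom R R k).comp (red a)) fun a a' h => ?_
  have hp : ∀ a : B →ₐ[R] R,
      (Spec.map (CommRingCat.ofHom a.toRingHom) ≫ N.isoSpec.inv) ≫ π = 𝟙 _ := fun a => by
    rw [Category.assoc, ← hφ, ← Spec.map_comp, ← Spec.map_id]
    congr 1
    ext x
    exact a.commutes x
  let z₁ := Spec.map (CommRingCat.ofHom (red a).toRingHom) ≫ N.isoSpec.inv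
  let z₂ := Spec.map (CommRingCat.ofHom (red a').toRingHom) ≫ N.isoSpec.inv
  let l : Spec (CommRingCat.of R) ⟶ pullback π π := pullback.lift z₁ z₂ ((hp _).trans (hp _).symm)
  haveI : IsOpenImmersion (pullback.diagonal π) := inferInstance
  let E := pullback.fst l (pullback.diagonal π)
  let c : Spec (CommRingCat.of k) ⟶ Spec (CommRingCat.of R) :=
    Spec.map (CommRingCat.ofHom (IsLocalRing.residue R))
  have hc : c ≫ z₁ = c ≫ z₂ := by
    rw [← Category.assoc, ← Category.assoc, ← Spec.map_comp, ← Spec.map_comp]
    congr 2
    ext x
    exact congr($h x)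
  let m : Spec (CommRingCat.of k) ⟶ pullback l (pullback.diagonal π) :=
    pullback.lift c (c ≫ z₁) (by
      apply pullback.hom_ext
      · rw [Category.assoc, pullback.lift_fst, Category.assoc, pullback.diagonal_fst, Category.comp_id]
      · rw [Category.assoc, pullback.lift_snd, Category.assoc, pullback.diagonal_snd, Category.comp_id,
          hc])
  have hcl : IsLocalRing.closedPoint (CommRingCat.of R) ∈ E.opensRange := by
    refine ⟨m (IsLocalRing.closedPoint k), ?_⟩
    rw [← Scheme.Hom.comp_apply, pullback.lift_fst]
    exact IsLocalRing.comap_closedPoint (IsLocalRing.residue R)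
  have htop : E.opensRange = ⊤ := top_le_iff.1 fun x _ =>
    (IsLocalRing.specializes_closedPoint x).mem_open E.opensRange.isOpen hcl
  haveI : IsIso E := isIso_of_isOpenImmersion_of_opensRange_eq_top E htop
  have h₁ : l = (inv E ≫ pullback.snd l (pullback.diagonal π)) ≫ pullback.diagonal π := by
    rw [Category.assoc, ← pullback.condition, IsIso.inv_hom_id_assoc]
  have hz : z₁ = z₂ := by
    have e1 : z₁ = l ≫ pullback.fst π π := (pullback.lift_fst _ _ _).symm
    have e2 : z₂ = l ≫ pullback.snd π π := (pullback.lift_snd _ _ _).symm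
    rw [e1, e2, h₁]
    simp only [Category.assoc, pullback.diagonal_fst, pullback.diagonal_snd]
  have hred : red a = red a' := by
    have h2 := Spec.map_injective ((cancel_mono N.isoSpec.inv).1 hz)
    ext x
    exact congr($(h2).hom x)
  ext x
  rw [← hr a x, ← hr a' x]
  exact congrArg (algebraMap R K) congr($hred x)

end Groth.Agent.H2.Tors.Reduce
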